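import Groth.Agent.MeroX.EffCartier
import Mathlib.RingTheory.Flat.FaithfullyFlat.Algebra
import Mathlib.AlgebraicGeometry.Morphisms.FlatDescent

/-!
Effective Cartier divisors descend along faithfully flat morphisms.
-/

universe u

open CategoryTheory AlgebraicGeometry

namespace Groth.Agent.MeroX

variable {X X' : Scheme.{u}}

lemma exists_generator_of_map_eq_span {A B : Type u} [CommRing A] [CommRing B] [IsLocalRing A]
    [IsLocalRing B] (φ : A →+* B) [IsLocalHom φ] (hφ : φ.Flat) (J : Ideal A) (g : B)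
    (hg : g ∈ nonZeroDivisors B) (hJ : J.map φ = Ideal.span {g}) :
    ∃ j : A, j ∈ nonZeroDivisors A ∧ J = Ideal.span {j} := by
  letI := φ.toAlgebra
  haveI : Module.Flat A B := hφ
  haveI : IsLocalHom (algebraMap A B) := ‹_›
  haveI := Module.FaithfullyFlat.of_flat_of_isLocalHom (A := A) (B := B)
  obtain ⟨j, hj, u, hu⟩ : ∃ j ∈ J, ∃ u : Bˣ, φ j = g * u := by
    by_contra hne
    push Not at hne
    have hle : J.map φ ≤ Ideal.span {g} * IsLocalRing.maximalIdeal B := by
      refine Ideal.map_le_iff_le_comap.mpr fun j hj => ?_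
      obtain ⟨d, hd⟩ := Ideal.mem_span_singleton.mp (hJ ▸ Ideal.mem_map_of_mem φ hj)
      rw [Ideal.mem_comap, Ideal.mem_span_singleton_mul]
      refine ⟨d, ?_, hd.symm⟩
      rw [IsLocalRing.mem_maximalIdeal]
      intro hu
      exact hne j hj hu.unit (by rw [hd, IsUnit.unit_spec])
    obtain ⟨m, hm, hgm⟩ := Ideal.mem_span_singleton_mul.mp
      (hle (hJ ▸ Ideal.mem_span_singleton_self g))
    have : m = 1 := by
      refine sub_eq_zero.mp (mem_nonZeroDivisors_iff_right.mp hg _ ?_)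
      rw [sub_mul, one_mul, mul_comm, hgm, sub_self]
    exact Ideal.IsPrime.ne_top' (Ideal.eq_top_iff_one _ |>.mpr (this ▸ hm))
  have hjn : φ j ∈ nonZeroDivisors B := hu ▸ mul_mem hg u.isUnit.mem_nonZeroDivisors
  have hinj : Function.Injective φ := FaithfulSMul.algebraMap_injective A B
  refine ⟨j, mem_nonZeroDivisors_iff_right.mpr fun z hz => hinj ?_, ?_⟩
  · rw [map_zero]
    exact mem_nonZeroDivisors_iff_right.mp hjn _ (by rw [← map_mul, hz, map_zero])
  · have e : (Ideal.span {j}).map (algebraMap A B) = J.map (algebraMap A B) := by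
      rw [Ideal.map_span, Set.image_singleton]
      change Ideal.span {φ j} = J.map φ
      rw [hJ, hu, Ideal.span_singleton_mul_right_unit u.isUnit]
    rw [← Ideal.comap_map_eq_self_of_faithfullyFlat (B := B) J, ← e,
      Ideal.comap_map_eq_self_of_faithfullyFlat]

/-- An ideal sheaf whose pull back along a faithfully flat morphism is effective Cartier is
effective Cartier. -/
theorem isEffCartier_of_comap [IsLocallyNoetherian X] (g : X' ⟶ X) [Flat g] [Surjective g]
    (I : X.IdealSheafData) (hI : BlowUp.IsEffCartierIdeal (I.comap g)) :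
    BlowUp.IsEffCartierIdeal I := by
  refine isEffCartier_of_stalk I fun x _ U hx => ?_
  obtain ⟨x', rfl⟩ := g.surjective x
  obtain ⟨U', hU', a, ha, hIa⟩ := hI x'
  obtain ⟨_, ⟨V, hV, rfl⟩, hxV, hVU⟩ := X'.isBasis_affineOpens.exists_subset_of_mem_open
    (show x' ∈ ((U'.1 ⊓ g ⁻¹ᵁ U.1 : X'.Opens) : Set X') from ⟨hU', hx⟩) (U'.1 ⊓ g ⁻¹ᵁ U.1).isOpen
  have h1 : V ≤ U'.1 := fun z hz => (hVU hz).1
  have h2 : V ≤ g ⁻¹ᵁ U.1 := fun z hz => (hVU hz).2
  have e1 : (I.ideal U).map (g.appLE U.1 V h2).hom =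
      Ideal.span {(X'.presheaf.map (homOfLE h1).op).hom a} := by
    rw [← ModPairLib.ideal_comap I g U ⟨V, hV⟩ h2,
      ← (I.comap g).map_ideal (U := ⟨V, hV⟩) (V := U') h1, hIa, Ideal.map_span, Set.image_singleton]
    rfl
  refine exists_generator_of_map_eq_span (g.stalkMap x').hom (Flat.stalkMap g x') _
    (X'.presheaf.germ U'.1 x' hU' a) ?_ ?_ |>.imp fun j hj => ⟨hj.1, hj.2⟩
  · letI := X'.presheaf.algebra_section_stalk ⟨x', hU'⟩
    haveI := U'.2.isLocalization_stalk ⟨x', hU'⟩
    exact IsLocalization.map_nonZeroDivisors_le (U'.2.primeIdealOf ⟨x', hU'⟩).asIdeal.primeCompl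
      (X'.presheaf.stalk x') (Submonoid.mem_map_of_mem _ ha)
  · have e2 : X.presheaf.germ U.1 (g x') hx ≫ g.stalkMap x' =
        g.appLE U.1 V h2 ≫ X'.presheaf.germ V x' hxV := by
      rw [Scheme.Hom.germ_stalkMap, Scheme.Hom.appLE, Category.assoc, X'.presheaf.germ_res]
    rw [Ideal.map_map, ← CommRingCat.hom_comp, e2, CommRingCat.hom_comp, ← Ideal.map_map, e1,
      Ideal.map_span, Set.image_singleton]
    congr 2
    exact X'.presheaf.germ_res_apply (homOfLE h1) x' hxV a

end Groth.Agent.MeroX
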